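import Groth.Agent.Fga.PicLocal685
import Groth.Agent.Fga.PicTanMain
import Groth.Agent.Fdesc.StructMod
import Groth.Agent.S0002

/-!
# The cotangent space of a Picard scheme at the origin has dimension at most `h¹(O)`

The proof of `S3228` in fact bounds the dimension of the cotangent space.
-/

set_option autoImplicit false
universe u

open CategoryTheory CategoryTheory.Limits AlgebraicGeometry TrivSqZeroExt

namespace K818.PicTan

open Groth.Agent.Fga.PicLocal685 Groth.Agent.Fga.PicLocalAlg685

section alg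

open IsLocalRing TrivSqZeroExt Module

variable {k R : Type u} [Field k] [CommRing R] [IsLocalRing R] [Algebra k R]

theorem exists_tangent' [IsNoetherianRing R] (ε : R →ₐ[k] k) :
    ∃ (r : ℕ) (ψ : R →ₐ[k] TrivSqZeroExt k (Fin r → k)), r = finrank (ResidueField R) (CotangentSpace R) ∧
      (∀ x, (ψ x).fst = ε x) ∧ ∀ v : Fin r → k, ∃ x, ψ x = inr v := by
  have hfin : Module.Finite k (maximalIdeal R).Cotangent := by
    have h1 : Module.Finite (ResidueField R) (CotangentSpace R) := inferInstance
    have h2 : Module.Finite k (ResidueField R) :=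
      Module.Finite.of_surjective (Algebra.linearMap k (ResidueField R)) (bijective_residue ε).2
    have : IsScalarTower k (ResidueField R) (CotangentSpace R) := by
      refine ⟨fun c y w => ?_⟩
      obtain ⟨x, rfl⟩ := IsLocalRing.residue_surjective y
      rw [Algebra.smul_def, mul_smul, IsScalarTower.algebraMap_apply k R (ResidueField R)]
      rw [algebraMap_smul, algebraMap_smul]
    exact Module.Finite.trans (ResidueField R) (CotangentSpace R)
  set r := finrank k (maximalIdeal R).Cotangent with hr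
  let b := Module.finBasisOfFinrankEq k (maximalIdeal R).Cotangent hr.symm
  let e : (maximalIdeal R).Cotangent ≃ₗ[k] (Fin r → k) := b.equivFun
  refine ⟨r, tan ε (e : (maximalIdeal R).Cotangent →ₗ[k] (Fin r → k)), ?_, tan_fst ε _, ?_⟩
  · rw [finrank_eq ε]
  · intro v
    obtain ⟨⟨x, hx⟩, hx'⟩ := (maximalIdeal R).toCotangent_surjective (e.symm v)
    refine ⟨x, ?_⟩
    rw [tan_of_mem ε _ x hx, hx']
    simp

end alg

section Main

variable {k : Type u} [Field k] {X : Scheme.{u}} (f : X ⟶ Spec (CommRingCat.of k)) (P : Over (Spec (CommRingCat.of k)))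
  (φ : ∀ T : Over (Spec (CommRingCat.of k)), PicF.Cl (PicF.XT f T) → (T ⟶ P))

theorem finrank_le (hP : PicRel.IsRelPic f P φ) [LocallyOfFiniteType P.hom] (h : ℕ)
    (hE : Kills f h) :
    Module.finrank (IsLocalRing.ResidueField (P.left.presheaf.stalk
      ((φ (Over.mk (𝟙 (Spec (CommRingCat.of k))))
        (PicF.cl (Coh.structureModule (PicF.XT f
          (Over.mk (𝟙 (Spec (CommRingCat.of k)))))))).left.base (IsLocalRing.closedPoint k))))
      (IsLocalRing.CotangentSpace (P.left.presheaf.stalk
      ((φ (Over.mk (𝟙 (Spec (CommRingCat.of k))))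
        (PicF.cl (Coh.structureModule (PicF.XT f
          (Over.mk (𝟙 (Spec (CommRingCat.of k)))))))).left.base (IsLocalRing.closedPoint k)))) ≤ h := by
  set E := φ (Over.mk (𝟙 (Spec (CommRingCat.of k)))) (PicF.cl (Coh.structureModule (PicF.XT f
          (Over.mk (𝟙 (Spec (CommRingCat.of k))))))) with hEdef
  have hN : IsLocallyNoetherian P.left := LocallyOfFiniteType.isLocallyNoetherian P.hom
  let e : P.left := E.left.base (IsLocalRing.closedPoint k)
  let R : Type u := P.left.presheaf.stalk e
  have hRN : IsNoetherianRing R := inferInstance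
  obtain ⟨ιR, hιR⟩ := Spec.map_surjective (P.left.fromSpecStalk e ≫ P.hom)
  let _ : Algebra k R := ιR.hom.toAlgebra
  let ε0 : P.left.presheaf.stalk e ⟶ CommRingCat.of k := Scheme.stalkClosedPointTo E.left
  have hε0 : Spec.map ε0 ≫ P.left.fromSpecStalk e = E.left :=
    Scheme.Spec_stalkClosedPointTo_fromSpecStalk E.left
  have hε1 : ιR ≫ ε0 = 𝟙 _ := by
    apply Spec.map_injective
    rw [Spec.map_comp, hιR, ← Category.assoc, hε0, Spec.map_id]
    exact Over.w E
  let ε : R →ₐ[k] k := { ε0.hom with commutes' := fun a => congrArg (fun g => g.hom a) hε1 }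
  obtain ⟨r, ψ, hr, hψ1, hψ2⟩ := exists_tangent' ε
  rw [← hr]
  by_contra hlt
  have hlt' : h < r := by
    by_contra hle
    exact hlt (by exact_mod_cast not_lt.mp hle)
  let u : sp (inlHom k (Fin r → k)) ⟶ P :=
    Over.homMk (Spec.map (CommRingCat.ofHom (ψ : R →+* TrivSqZeroExt k (Fin r → k))) ≫
        P.left.fromSpecStalk e) (by
      rw [Category.assoc, ← hιR, ← Spec.map_comp]
      simp only [Over.mk_hom]
      congr 1
      ext1
      ext1 a
      exact ψ.commutes a)
  have hfstψ : (fstHom k k (Fin r → k) : TrivSqZeroExt k (Fin r → k) →+* k).comp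
      (ψ : R →+* TrivSqZeroExt k (Fin r → k)) = ε0.hom := by
    ext1 x
    exact hψ1 x
  have hu : spm (inlHom k (Fin r → k)) (RingHom.id k)
      (fstHom k k (Fin r → k) : TrivSqZeroExt k (Fin r → k) →+* k) (by ext1 a; simp) ≫ u =
        φ _ (PicF.cl (Coh.structureModule _)) := by
    let t : sp (RingHom.id k) ⟶ Over.mk (𝟙 (Spec (CommRingCat.of k))) :=
      Over.homMk (Spec.map (CommRingCat.ofHom (RingHom.id k))) (by simp)
    rw [natural_unit f P φ hP t]
    ext1
    change Spec.map _ ≫ Spec.map _ ≫ _ = Spec.map (𝟙 _) ≫ E.left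
    rw [Spec.map_id, Category.id_comp, ← hε0, ← Category.assoc, ← Spec.map_comp]
    congr 2
    ext1
    exact hfstψ
  obtain ⟨K, hK, σ, c, hσ, hc, hφc, hcz⟩ := exists_class f P φ hP r u hu
  obtain ⟨l, hl0, hl⟩ := hE K σ r c hσ hc hcz hlt'
  apply hl0
  let q : sp ((inlHom K K).comp σ) ⟶ sp ((inlHom K (Fin r → K)).comp σ) :=
    spm ((inlHom K (Fin r → K)).comp σ) ((inlHom K K).comp σ) (lam l) (lam_inlHom σ l)
  have h1 : φ _ (PicF.pullCl (PicF.XTmap f q) c) = q ≫ spm (inlHom k (Fin r → k)) _ (chg σ r)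
      (by ext1 a; simp) ≫ u := by
    rw [hP.natural _ _ _ _ hc, hφc]
  have h2 : φ _ (PicF.pullCl (PicF.XTmap f q) c) =
      spm (RingHom.id k) ((inlHom K K).comp σ) ((inlHom K K).comp σ) (by ext1 a; simp) ≫
      spm (inlHom k (Fin r → k)) (RingHom.id k)
      (fstHom k k (Fin r → k) : TrivSqZeroExt k (Fin r → k) →+* k) (by ext1 a; simp) ≫ u := by
    rw [hu, ← natural_unit f P φ hP, hl]
  have h3 : (lam l).comp ((chg σ r).comp (ψ : R →+* TrivSqZeroExt k (Fin r → k))) =
      ((inlHom K K).comp σ).comp ((fstHom k k (Fin r → k) : TrivSqZeroExt k (Fin r → k) →+* k).comp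
        (ψ : R →+* TrivSqZeroExt k (Fin r → k))) := by
    have h4 := congrArg CommaMorphism.left (h1.symm.trans h2)
    change Spec.map _ ≫ Spec.map _ ≫ Spec.map _ ≫ _ = Spec.map _ ≫ Spec.map _ ≫ Spec.map _ ≫ _ at h4
    rw [← Category.assoc, ← Category.assoc, ← Category.assoc, ← Category.assoc] at h4
    rw [cancel_mono, ← Spec.map_comp, ← Spec.map_comp, ← Spec.map_comp, ← Spec.map_comp] at h4
    have h5 := Spec.map_injective h4
    exact congrArg CommRingCat.Hom.hom h5
  have h6 : ∀ v : Fin r → k, l (fun i => σ (v i)) = 0 := by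
    intro v
    obtain ⟨x, hx⟩ := hψ2 v
    have h7 := congrArg TrivSqZeroExt.snd (RingHom.congr_fun h3 x)
    change (lam l (chg σ r (ψ x))).snd = (inl (σ (ψ x).fst) : TrivSqZeroExt K K).snd at h7
    rw [hx, chg_inr, lam_inr, snd_inr, snd_inl] at h7
    exact h7
  apply LinearMap.pi_ext'
  intro i
  ext1
  have h8 := h6 (Pi.single i 1)
  simp only [LinearMap.coe_comp, Function.comp_apply, LinearMap.coe_single, LinearMap.zero_apply]
  rw [← h8]
  congr 1
  funext j
  by_cases hij : j = i
  · subst hij; simp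
  · simp [Pi.single_eq_of_ne hij]

end Main

end K818.PicTan
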