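import Groth.Agent.AbVar.K818.PicFppf
import Groth.Agent.AbVar.K818.PicTan
import Groth.Agent.Sga7.H270.FinStab
import Groth.Agent.S7822
import Groth.Agent.S0354
import Groth.Agent.S3447
import Groth.Agent.S8121
import Groth.Agent.AbVar.K504.AnyField

/-!
# The Picard scheme of an abelian variety is smooth of dimension `dim A`
-/

set_option autoImplicit false
set_option backward.isDefEq.respectTransparency false
universe u
open CategoryTheory Limits MonoidalCategory CartesianMonoidalCategory AlgebraicGeometry
open scoped MonObj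

namespace K818.PicAV

open Groth.Agent.Grpsch.PicGrp Groth.Agent.Grpsch.Cube Groth.Agent.Fga.RigGrp Groth.Agent.Sga7.H270.FinStab

/-! ### Dimension of the source and of the target at a rational point -/

theorem stalk_dim_le_zero {F : Scheme.{u}} [IsLocallyArtinian F] (x : F) : ringKrullDim (F.presheaf.stalk x) ≤ 0 := by
  rw [ringKrullDim_stalk_eq_coheight]
  have h : topologicalKrullDim F = Order.krullDim F := Order.krullDim_eq_of_orderIso irreducibleSetEquivPoints
  have h2 := topologicalKrullDim_zero_of_discreteTopology F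
  rw [h] at h2
  exact (Order.coheight_le_krullDim x).trans h2

variable {k : Type u} [Field k]

theorem dim_le {X P : Scheme.{u}} (p : P ⟶ Spec (CommRingCat.of k)) [LocallyOfFiniteType p] (m : X ⟶ P)
    [LocallyOfFiniteType m] [QuasiCompact m] (z : Spec (CommRingCat.of k) ⟶ P) (hz : z ≫ p = 𝟙 _) (x : X)
    (hx : m x = z (IsLocalRing.closedPoint k)) (hfin : LocallyQuasiFinite (pullback.snd m z)) :
    ringKrullDim (X.presheaf.stalk x) ≤ ringKrullDim (P.presheaf.stalk (m x)) := by
  have hN : IsLocallyNoetherian P := LocallyOfFiniteType.isLocallyNoetherian p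
  obtain ⟨h1, h2⟩ := Groth.Agent.Sga7.H270.FinPts.section_aux p z hz (m x) hx
  set i := P.fromSpecResidueField (m x) ≫ p with hi
  have h3 : LocallyQuasiFinite (m.fiberToSpecResidueField (m x)) := by
    change LocallyQuasiFinite (pullback.snd m (P.fromSpecResidueField (m x)))
    have h4 : LocallyQuasiFinite (pullback.snd m (i ≫ z)) := by
      let e := pullbackLeftPullbackSndIso m z i
      have h5 : pullback.snd m (i ≫ z) = e.inv ≫ pullback.snd (pullback.snd m z) i := by
        rw [Iso.eq_inv_comp]
        exact pullbackLeftPullbackSndIso_hom_snd m z i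
      rw [h5]
      infer_instance
    rwa [← h2] at h4
  have h6 : IsLocallyArtinian (m.fiber (m x)) := by
    have : IsLocallyArtinian (Spec (P.residueField (m x))) := inferInstance
    exact .of_locallyQuasiFinite (m.fiberToSpecResidueField (m x))
  have h7 := Groth.Agent.S3447.result m x
  refine h7.trans ?_
  refine (add_le_add le_rfl (stalk_dim_le_zero _)).trans ?_
  rw [add_zero]

variable {A : Over (Spec (CommRingCat.of k))} [GrpObj A]

/-- The Mumford class is rigidified along the unit section. -/
theorem Lam_mem (c : Pic A.left) : Lam c ∈ Rg A.hom η[A].left (Over.w η[A]) A := by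
  rw [mem_Rg]
  have h := pull_Lam c (W := A) 1 (𝟙 A) (PicF.secT A.hom η[A].left (Over.w η[A]) A) (secT_fst _ _ _ _)
    (secT_XTproj _ _ _ _)
  rw [h, mul_one, pl_one, inv_one, mul_one]
  have : pl (𝟙 A) c = c := pull_id c
  rw [this, mul_inv_cancel]

variable [IsProper A.hom] [GeometricallyIntegral A.hom]

theorem isIso_XTproj (T : Over (Spec (CommRingCat.of k))) (U : T.left.Opens) : IsIso ((PicF.XTproj A.hom T).app U) :=
  Groth.Agent.Grpsch.CubeData.isIso_app (pullback.snd A.hom T.hom) U

/-- The cotangent space at the origin has dimension at most `g`. -/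
theorem finrank_cotangent_le (g : ℕ) (hg : topologicalKrullDim A.left = g) (P : Over (Spec (CommRingCat.of k)))
    (φ : ∀ T : Over (Spec (CommRingCat.of k)), PicF.Cl (PicF.XT A.hom T) → (T ⟶ P))
    (hP : PicRel.IsRelPic A.hom P φ) [LocallyOfFiniteType P.hom] :
    Module.finrank (IsLocalRing.ResidueField (P.left.presheaf.stalk
      ((φ (Over.mk (𝟙 (Spec (CommRingCat.of k))))
        (PicF.cl (Coh.structureModule (PicF.XT A.hom
          (Over.mk (𝟙 (Spec (CommRingCat.of k)))))))).left.base (IsLocalRing.closedPoint k))))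
      (IsLocalRing.CotangentSpace (P.left.presheaf.stalk
      ((φ (Over.mk (𝟙 (Spec (CommRingCat.of k))))
        (PicF.cl (Coh.structureModule (PicF.XT A.hom
          (Over.mk (𝟙 (Spec (CommRingCat.of k)))))))).left.base (IsLocalRing.closedPoint k)))) ≤ g := by
  let i0 : A.left.Over (Spec (CommRingCat.of k)) := ⟨A.hom⟩
  have i1 : IsProper (A.left ↘ Spec (CommRingCat.of k)) := inferInstanceAs (IsProper A.hom)
  have hfin : Module.Finite k (Coh.HH A.left (Coh.structureModule A.left) 1) :=
    Groth.Agent.S0002.result k A.left (Coh.structureModule A.left)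
      (Groth.Agent.Fdesc.StructMod.isCoh_structureModule A.left) 1
  have h1 : Module.finrank k (Coh.HH A.left (Coh.structureModule A.left) 1) = g := by
    rw [@K504.AnyField.finrank_O k _ A.left ⟨A.hom⟩ ‹GrpObj A› ‹IsProper A.hom› ‹GeometricallyIntegral A.hom› g hg 1,
      Nat.choose_one_right]
  have h2 := PicTan.finrank_le (A.left ↘ Spec (CommRingCat.of k)) P φ hP _ Groth.Agent.Fga.PicTanMain.kills
  rw [h1] at h2
  exact h2

/-- The dimension of `P` at the origin is at least `g`. -/
theorem le_dim (g : ℕ) (hg : topologicalKrullDim A.left = g) (P : Over (Spec (CommRingCat.of k)))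
    [LocallyOfFiniteType P.hom] (ξ : Pic (PicF.XT A.hom P)) (hξ : IsUniv A.hom η[A].left (Over.w η[A]) P ξ) :
    (g : WithBot ℕ∞) ≤ ringKrullDim (P.left.presheaf.stalk (hξ.zero.left (IsLocalRing.closedPoint k))) := by
  have hsep : IsSeparated P.hom := hξ.isSeparated
  obtain ⟨L, hL, -⟩ := Groth.Agent.S8121.result k A
  set c := mk L hL.1 with hc
  let m : A ⟶ P := hξ.hom (Lam c) (Lam_mem c)
  have hm : pull (PicF.XTmap A.hom m) ξ = Lam c := hξ.pull_hom _ _
  have i1 : IsProper (m.left ≫ P.hom) := by rw [Over.w m]; infer_instance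
  have i2 : IsProper m.left := IsProper.of_comp m.left P.hom
  have hz : hξ.zero.left ≫ P.hom = 𝟙 _ := Over.w hξ.zero
  have i3 : IsClosedImmersion hξ.zero.left := isClosedImmersion_of_comp_eq_id P.hom hξ.zero.left hz
  -- the fibre of `m` over the origin
  let Z : Scheme.{u} := pullback m.left hξ.zero.left
  let j : Z ⟶ A.left := pullback.fst m.left hξ.zero.left
  have hj : IsClosedImmersion j := inferInstance
  have h3 : j ≫ A.hom = pullback.snd m.left hξ.zero.left := by
    refine (congrArg (j ≫ ·) (Over.w m).symm).trans ?_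
    change pullback.fst m.left hξ.zero.left ≫ m.left ≫ P.hom = _
    rw [← Category.assoc, pullback.condition, Category.assoc, hz]
    exact Category.comp_id _
  let TZ : Over (Spec (CommRingCat.of k)) := Over.mk (j ≫ A.hom)
  let jj : TZ ⟶ A := Over.homMk j rfl
  have h1 : pull (PicF.XTmap A.hom jj) (Lam c) = 1 := by
    let q : TZ ⟶ Over.mk (𝟙 (Spec (CommRingCat.of k))) := Over.homMk (j ≫ A.hom) (Category.comp_id _)
    have h2 : jj ≫ m = q ≫ hξ.zero := by
      ext1
      change j ≫ m.left = (j ≫ A.hom) ≫ hξ.zero.left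
      rw [h3]
      exact pullback.condition
    rw [← hm, ← pull_comp, ← XTmap_comp, h2, XTmap_comp, pull_comp, hξ.pull_zero, map_one]
  have h4 : pull (pullback.fst (pullback.snd A.hom A.hom) j) (Lam c) = 1 := by
    let α : pullback (pullback.snd A.hom A.hom) j ⟶ PicF.XT A.hom TZ :=
      pullback.lift (pullback.fst _ _ ≫ pullback.fst _ _) (pullback.snd _ _) (by
        rw [Category.assoc, pullback.condition (f := A.hom) (g := A.hom), ← Category.assoc, pullback.condition,
          Category.assoc]
        rfl)
    have h5 : α ≫ PicF.XTmap A.hom jj = pullback.fst (pullback.snd A.hom A.hom) j := by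
      apply pullback.hom_ext
      · rw [Category.assoc]
        refine (congrArg (α ≫ ·) (XTmap_fst A.hom jj)).trans ?_
        exact pullback.lift_fst _ _ _
      · rw [Category.assoc]
        refine (congrArg (α ≫ ·) (XTmap_XTproj A.hom jj)).trans ?_
        rw [← Category.assoc]
        refine (congrArg (· ≫ j) (pullback.lift_snd _ _ _)).trans ?_
        exact pullback.condition.symm
    rw [← h5, pull_comp, h1, map_one]
  have hfin : IsFinite (j ≫ A.hom) := isFinite_locus L hL j h4
  have hfin2 : IsFinite (pullback.snd m.left hξ.zero.left) := by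
    rwa [← h3]
  -- the point
  let x : A.left := η[A].left (IsLocalRing.closedPoint k)
  have hx : m.left x = hξ.zero.left (IsLocalRing.closedPoint k) := by
    have h6 : η[A] ≫ m = hξ.zero := by
      apply hξ.hom_ext
      rw [XTmap_comp, pull_comp, hm]
      refine Eq.trans ?_ hξ.pull_zero.symm
      let W : Over (Spec (CommRingCat.of k)) :=
        Over.mk (pullback.fst A.hom (𝟙_ (Over (Spec (CommRingCat.of k)))).hom ≫ A.hom)
      let a : W ⟶ A := Over.homMk (pullback.fst A.hom (𝟙_ (Over (Spec (CommRingCat.of k)))).hom) rfl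
      have h7 := pull_Lam c (W := W) a 1 (PicF.XTmap A.hom η[A]) (XTmap_fst A.hom η[A]) (by
        refine (XTmap_XTproj A.hom η[A]).trans ?_
        rw [one_left]
        have h8 : W.hom = PicF.XTproj A.hom (𝟙_ (Over (Spec (CommRingCat.of k)))) := by
          change pullback.fst A.hom (𝟙_ (Over (Spec (CommRingCat.of k)))).hom ≫ A.hom = pullback.snd _ _
          rw [pullback.condition]
          exact Category.comp_id _
        rw [h8]
        rfl)
      refine h7.trans ?_
      rw [one_mul, pl_one, inv_one, mul_one, mul_inv_cancel]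
    have h8 := congrArg (fun z : (𝟙_ (Over (Spec (CommRingCat.of k)))) ⟶ P => z.left (IsLocalRing.closedPoint k)) h6
    exact h8
  have h9 := dim_le P.hom m.left hξ.zero.left hz x hx inferInstance
  rw [hx] at h9
  refine le_trans (le_of_eq ?_) h9
  rw [← hg]
  have := (K268.UnitSmooth.ringKrullDim_stalk_unit A).symm
  exact this

/-- The Picard scheme of an abelian variety is smooth of dimension `g`. -/
theorem main (g : ℕ) (hg : topologicalKrullDim A.left = g) (P : Over (Spec (CommRingCat.of k)))
    (φ : ∀ T : Over (Spec (CommRingCat.of k)), PicF.Cl (PicF.XT A.hom T) → (T ⟶ P))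
    (hP : AbDual.IsRelPicK Scheme.fppfPrecoverage A.hom P φ) [LocallyOfFiniteType P.hom] :
    Smooth P.hom ∧ topologicalKrullDim ↥P.left = g := by
  have hrel := PicFppf.isRelPic (Over.w η[A]) isIso_XTproj hP
  obtain ⟨ξ, hξ, hφ⟩ := PicFppf.exists_isUniv (Over.w η[A]) isIso_XTproj hP
  obtain ⟨hG, hmul, hone, hcomm⟩ := Groth.Agent.Pic13.H965.RelGrp.exists_grpObj hrel
  have h0 : (η[P] : Over.mk (𝟙 (Spec (CommRingCat.of k))) ⟶ P) =
      φ (Over.mk (𝟙 (Spec (CommRingCat.of k)))) (PicF.cl (Coh.structureModule _)) := by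
    have h1 := hone (𝟙_ (Over (Spec (CommRingCat.of k))))
    have h2 : (1 : 𝟙_ (Over (Spec (CommRingCat.of k))) ⟶ P) = η[P] := (MonObj.one_eq_one P).symm
    exact h2.symm.trans h1.symm
  have h1 : hξ.zero = φ (Over.mk (𝟙 (Spec (CommRingCat.of k)))) (PicF.cl (Coh.structureModule _)) := by
    apply hξ.hom_ext
    rw [hξ.pull_zero]
    exact (hφ _ 1 (one_mem _)).symm
  have hup := finrank_cotangent_le g hg P φ hrel
  have hlow := le_dim g hg P ξ hξ
  rw [h1] at hlow
  rw [← h0] at hup hlow
  have hd := K268.UnitSmooth.ringKrullDim_stalk_unit P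
  obtain ⟨hS1, hS2, -⟩ := Groth.Agent.S7822.result k P
  have e1 : (g : WithBot ℕ∞) ≤ topologicalKrullDim P.left := hlow.trans (le_of_eq hd)
  have hup' := (Nat.cast_le (α := WithBot ℕ∞)).2 hup
  have e3 : topologicalKrullDim P.left = g := le_antisymm (hS1.trans hup') e1
  refine ⟨hS2.2 (le_antisymm hS1 ?_), e3⟩
  rw [e3]
  exact hup'

end K818.PicAV
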