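import Groth.Agent.S12404
import Groth.Agent.Pic13.H965.RelGrp

/-!
# A scheme representing the fppf relative Picard functor also represents the étale one (section case)

`f : X ⟶ S` with a section and `O_T = (f_T)_* O_{X_T}` universally; a pair `(P, φ)` representing the fppf
sheafification of `T ↦ Pic(X_T)` represents its étale sheafification, and there is a universal rigidified class.
-/

set_option autoImplicit false
universe u
open CategoryTheory CategoryTheory.Limits AlgebraicGeometry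
open PicF Groth.Agent.Grpsch.PicGrp Groth.Agent.Fga.RigGrp

namespace K818.PicFppf

variable {X S : Scheme.{u}} {f : X ⟶ S} {σ : S ⟶ X} {hσ : σ ≫ f = 𝟙 S} {P : Over S}
  {φ : ∀ T : Over S, PicF.Cl (PicF.XT f T) → (T ⟶ P)}

/-- Zariski-local triviality of a class pulled back from the base. -/
theorem exists_zar (T : Over S) (w : Pic T.left) : ∃ (U : T.left → T.left.Opens), (∀ t, t ∈ U t) ∧
    ∀ t, pull (U t).ι w = 1 := by
  choose U hU hn using fun t ↦ Groth.Agent.Picfga.PicBridge.exists_open_pull_eq_one w t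
  exact ⟨U, hU, hn⟩

/-- An open subscheme in the small étale site. -/
noncomputable def openEt (T : Over S) (U : T.left.Opens) : T.left.Etale := MorphismProperty.Over.mk ⊤ U.ι inferInstance

theorem covers_openEt (T : Over S) (U : T.left → T.left.Opens) (hU : ∀ t, t ∈ U t) :
    EtCoh.Covers (fun t => openEt T (U t)) := by
  intro t
  exact ⟨t, ⟨t, hU t⟩, rfl⟩

theorem pull_le {Y : Scheme.{u}} {V U : Y.Opens} (h : V ≤ U) (w : Pic Y) (hw : pull U.ι w = 1) : pull V.ι w = 1 := by
  rw [← Scheme.homOfLE_ι Y h, pull_comp, hw, map_one]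

/-- Pulling back the normalisation along a map killing the base part. -/
theorem pull_norm_eq (hσ : σ ≫ f = 𝟙 S) {T T' : Over S} (g : T' ⟶ T) (c : Pic (PicF.XT f T))
    (h : pull g.left (pull (PicF.secT f σ hσ T) c) = 1) :
    pull (PicF.XTmap f g) (norm f σ hσ T c) = pull (PicF.XTmap f g) c := by
  rw [norm_apply, map_div, ← pull_comp (PicF.XTmap f g) (PicF.XTproj f T), XTmap_XTproj, pull_comp, h, map_one, div_one]

/-- A class and its normalisation have the same image. -/
theorem phi_norm (hσ : σ ≫ f = 𝟙 S) (hP : AbDual.IsRelPicK Scheme.fppfPrecoverage f P φ) (T : Over S)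
    (c : Pic (PicF.XT f T)) : φ T (toCl (norm f σ hσ T c)) = φ T (toCl c) := by
  choose U hU hn using fun t ↦ Groth.Agent.Picfga.PicBridge.exists_open_pull_eq_one
    (pull (PicF.secT f σ hσ T) c) t
  refine (K732.Cov.zar U hU).hom_ext fun i ↦ ?_
  have h1 : pull ((K732.Cov.zar U hU).j i).left (pull (PicF.secT f σ hσ T) c) = 1 := hn i
  rw [← hP.natural _ _ ((K732.Cov.zar U hU).j i) _ (isInvertibleCl_toCl _),
    ← hP.natural _ _ ((K732.Cov.zar U hU).j i) _ (isInvertibleCl_toCl _),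
    ← toCl_pull, ← toCl_pull, norm_apply, map_div,
    ← pull_comp (PicF.XTmap f _) (PicF.XTproj f T), XTmap_XTproj,
    pull_comp, h1, map_one, div_one]

/-- The étale version. -/
theorem isRelPic (hσ : σ ≫ f = 𝟙 S)
    (ha : ∀ (T : Over S) (U : T.left.Opens), IsIso ((PicF.XTproj f T).app U))
    (hP : AbDual.IsRelPicK Scheme.fppfPrecoverage f P φ) : PicRel.IsRelPic f P φ where
  natural := hP.natural
  locallySurjective T g := by
    obtain ⟨c, hc⟩ := (Groth.Agent.S12404.result f σ hσ ha P φ hP T).2 g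
    refine ⟨PUnit, fun _ => MorphismProperty.Over.mk ⊤ (𝟙 T.left) inferInstance, ?_, fun _ => ?_⟩
    · intro t
      exact ⟨⟨⟩, t, rfl⟩
    · let u : PicRel.ovr T (MorphismProperty.Over.mk ⊤ (𝟙 T.left) inferInstance) ⟶ T := PicRel.ovrHom T _
      refine ⟨PicF.pullCl (PicF.XTmap f u) c.1, ?_, ?_⟩
      · obtain ⟨d, hd⟩ := exists_toCl c.2.1
        rw [← hd, ← toCl_pull]
        exact isInvertibleCl_toCl _
      · rw [hP.natural _ _ _ _ c.2.1]
        exact congrArg (u ≫ ·) hc
  locallyInjective T c c' hc hc' h := by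
    obtain ⟨d, rfl⟩ := exists_toCl hc
    obtain ⟨d', rfl⟩ := exists_toCl hc'
    have h1 : norm f σ hσ T d = norm f σ hσ T d' := by
      have h2 := (Groth.Agent.S12404.result f σ hσ ha P φ hP T).1
      have h3 : (rigEquiv f σ hσ T ⟨_, norm_mem f σ hσ T d⟩) = rigEquiv f σ hσ T ⟨_, norm_mem f σ hσ T d'⟩ := by
        apply h2
        change φ T (toCl _) = φ T (toCl _)
        rw [phi_norm hσ hP, phi_norm hσ hP, h]
      exact congrArg Subtype.val ((rigEquiv f σ hσ T).injective h3)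
    obtain ⟨U, hU, hn⟩ := exists_zar T (pull (PicF.secT f σ hσ T) d)
    obtain ⟨U', hU', hn'⟩ := exists_zar T (pull (PicF.secT f σ hσ T) d')
    refine ⟨T.left, fun t => openEt T (U t ⊓ U' t), covers_openEt T _ fun t => ⟨hU t, hU' t⟩, fun t => ?_⟩
    have e1 := pull_norm_eq hσ (PicRel.ovrHom T (openEt T (U t ⊓ U' t))) d (pull_le inf_le_left _ (hn t))
    have e2 := pull_norm_eq hσ (PicRel.ovrHom T (openEt T (U t ⊓ U' t))) d' (pull_le inf_le_right _ (hn' t))
    rw [← toCl_pull, ← toCl_pull, ← e1, ← e2, h1]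

/-- The universal rigidified class. -/
theorem exists_isUniv (hσ : σ ≫ f = 𝟙 S)
    (ha : ∀ (T : Over S) (U : T.left.Opens), IsIso ((PicF.XTproj f T).app U))
    (hP : AbDual.IsRelPicK Scheme.fppfPrecoverage f P φ) :
    ∃ ξ : Pic (PicF.XT f P), IsUniv f σ hσ P ξ ∧ ∀ (T : Over S) (c : Pic (PicF.XT f T)), c ∈ Rg f σ hσ T →
      pull (PicF.XTmap f (φ T (toCl c))) ξ = c := by
  obtain ⟨c, hc⟩ := (Groth.Agent.S12404.result f σ hσ ha P φ hP P).2 (𝟙 P)
  obtain ⟨ξ, rfl⟩ := (rigEquiv f σ hσ P).surjective c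
  have hξ : φ P (toCl ξ.1) = 𝟙 P := hc
  have key : ∀ (T : Over S) (g : T ⟶ P), φ T (toCl (pull (PicF.XTmap f g) ξ.1)) = g := by
    intro T g
    rw [toCl_pull, hP.natural _ _ _ _ (isInvertibleCl_toCl _), hξ, Category.comp_id]
  have hinj : ∀ (T : Over S) (c d : Pic (PicF.XT f T)), c ∈ Rg f σ hσ T → d ∈ Rg f σ hσ T →
      φ T (toCl c) = φ T (toCl d) → c = d := by
    intro T c d hc hd h
    have h2 := (Groth.Agent.S12404.result f σ hσ ha P φ hP T).1
    have h3 : (rigEquiv f σ hσ T ⟨c, hc⟩) = rigEquiv f σ hσ T ⟨d, hd⟩ := h2 h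
    exact congrArg Subtype.val ((rigEquiv f σ hσ T).injective h3)
  have key2 : ∀ (T : Over S) (c : Pic (PicF.XT f T)), c ∈ Rg f σ hσ T →
      pull (PicF.XTmap f (φ T (toCl c))) ξ.1 = c := by
    intro T c hc
    exact hinj T _ _ (pull_mem _ ξ.2) hc (key T _)
  refine ⟨ξ.1, ⟨ξ.2, fun T c hc => ⟨φ T (toCl c), key2 T c hc, fun g hg => ?_⟩⟩, key2⟩
  rw [← key T g]
  exact congrArg (fun z => φ T (toCl z)) hg

end K818.PicFppf
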